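import Mathlib
import Cfsg.Agent.Lib.Grp.Frattini

/-!
Coloured commuting pairs in a permutation `p`-group. For a finite group `P` acting faithfully on
`n` points with `o` orbits, the number of triples `(x, y, f)` (`x`, `y` commuting, `f` a colouring
with `c` colours fixed by `x`) is at most `|P| c^n (1 + u)^(n - o)`, `u = c^-(p-1)`.
-/

namespace Cfsg.Agent.Grp.PermClasses

universe u v

section Basic

variable {P : Type v} [Group P] {α : Type u} (ρ : P →* Equiv.Perm α) (c : ℕ)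

/-- Commuting pairs together with a colouring fixed by the first entry. -/
abbrev Triples : Type (max u v) :=
  {t : P × P × (α → Fin c) // Commute t.1 t.2.1 ∧ ∀ a, t.2.2 (ρ t.1 a) = t.2.2 a}

/-- The orbit relation. -/
def orbSetoid : Setoid α where
  r a b := ∃ g, ρ g a = b
  iseqv :=
    { refl := fun a => ⟨1, by simp⟩
      symm := fun {a b} h => by
        obtain ⟨g, rfl⟩ := h
        exact ⟨g⁻¹, by simp⟩
      trans := fun {a b d} h h' => by
        obtain ⟨g, rfl⟩ := h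
        obtain ⟨g', rfl⟩ := h'
        exact ⟨g' * g, by simp⟩ }

/-- The number of orbits. -/
noncomputable def norb : ℕ := Nat.card (Quotient (orbSetoid ρ))

theorem norb_le [Finite α] : norb ρ ≤ Nat.card α :=
  Nat.card_le_card_of_surjective _ Quotient.mk_surjective

end Basic

section Split

variable {P : Type v} [Group P] {α : Type u} (ρ : P →* Equiv.Perm α)
  (A : Set α) (hA : ∀ g a, ρ g a ∈ A ↔ a ∈ A)

/-- Restriction of the action to an invariant set. -/
def restr : P →* Equiv.Perm A where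
  toFun g := (ρ g).subtypePerm fun a => hA g a
  map_one' := by ext a; simp
  map_mul' g h := Equiv.ext fun a =>
    Subtype.ext (congrArg (fun e : Equiv.Perm α => e a) (map_mul ρ g h))

@[simp] theorem restr_apply (g : P) (a : A) : (restr ρ A hA g a : α) = ρ g a := rfl

include hA in
theorem compl_invariant : ∀ g a, ρ g a ∈ (Aᶜ : Set α) ↔ a ∈ (Aᶜ : Set α) :=
  fun g a => by simp [hA g a]

/-- The kernel of the action on `A`, acting on the complement of `A`. -/
def kerAct : (restr ρ A hA).ker →* Equiv.Perm (Aᶜ : Set α) :=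
  (restr ρ Aᶜ (compl_invariant ρ A hA)).comp (restr ρ A hA).ker.subtype

/-- The group induced on `A`, acting on `A`. -/
noncomputable def imgAct : P ⧸ (restr ρ A hA).ker →* Equiv.Perm A :=
  QuotientGroup.kerLift (restr ρ A hA)

theorem imgAct_injective : Function.Injective (imgAct ρ A hA) :=
  QuotientGroup.kerLift_injective _

theorem ker_fixes (g : P) (hg : g ∈ (restr ρ A hA).ker) (a : α) (ha : a ∈ A) : ρ g a = a := by
  have := congrArg (fun e : Equiv.Perm A => (e ⟨a, ha⟩ : α)) (MonoidHom.mem_ker.1 hg)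
  simpa using this

theorem kerAct_injective (hρ : Function.Injective ρ) : Function.Injective (kerAct ρ A hA) := by
  intro g h e
  refine Subtype.ext (hρ (Equiv.ext fun a => ?_))
  by_cases ha : a ∈ A
  · rw [ker_fixes ρ A hA g g.2 a ha, ker_fixes ρ A hA h h.2 a ha]
  · exact congrArg (fun e : Equiv.Perm (Aᶜ : Set α) => (e ⟨a, ha⟩ : α)) e

theorem imgAct_mk (g : P) : imgAct ρ A hA (g : P ⧸ (restr ρ A hA).ker) = restr ρ A hA g := rfl

/-- Triples split along an invariant set. -/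
theorem card_triples_split [Finite P] [Finite α] (c : ℕ) :
    Nat.card (Triples ρ c) ≤
      Nat.card (Triples (imgAct ρ A hA) c) * Nat.card (Triples (kerAct ρ A hA) c) := by
  classical
  let K := (restr ρ A hA).ker
  -- the chosen first entry, given the image, the second entry and the colouring
  let X : P ⧸ K → P → ((Aᶜ : Set α) → Fin c) → P := fun qx y fB =>
    if h : ∃ x : P, (x : P ⧸ K) = qx ∧ Commute x y ∧
        ∀ b, fB (restr ρ Aᶜ (compl_invariant ρ A hA) x b) = fB b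
    then h.choose else 1
  -- the chosen second entry, given the image and the reduced first entry
  let Y : P ⧸ K → P → P := fun qy z =>
    if h : ∃ y : P, (y : P ⧸ K) = qy ∧ Commute z y then h.choose else 1
  let resB : (α → Fin c) → ((Aᶜ : Set α) → Fin c) := fun f b => f b
  have hX : ∀ t : Triples ρ c,
      ((X (t.1.1 : P) t.1.2.1 (resB t.1.2.2) : P) : P ⧸ K) = (t.1.1 : P) ∧
      Commute (X (t.1.1 : P) t.1.2.1 (resB t.1.2.2)) t.1.2.1 ∧
      ∀ b, resB t.1.2.2 (restr ρ Aᶜ (compl_invariant ρ A hA)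
        (X (t.1.1 : P) t.1.2.1 (resB t.1.2.2)) b) = resB t.1.2.2 b := by
    intro t
    have h : ∃ x : P, (x : P ⧸ K) = (t.1.1 : P) ∧ Commute x t.1.2.1 ∧
        ∀ b, resB t.1.2.2 (restr ρ Aᶜ (compl_invariant ρ A hA) x b) = resB t.1.2.2 b :=
      ⟨t.1.1, rfl, t.2.1, fun b => t.2.2 b⟩
    simp only [X, dif_pos h]
    exact h.choose_spec
  let z : Triples ρ c → P := fun t => (X (t.1.1 : P) t.1.2.1 (resB t.1.2.2))⁻¹ * t.1.1
  have hzK : ∀ t, z t ∈ K := fun t => QuotientGroup.eq.1 (hX t).1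
  have hzc : ∀ t, Commute (z t) t.1.2.1 := fun t => ((hX t).2.1.inv_left).mul_left t.2.1
  have hY : ∀ t : Triples ρ c, ((Y (t.1.2.1 : P) (z t) : P) : P ⧸ K) = (t.1.2.1 : P) ∧
      Commute (z t) (Y (t.1.2.1 : P) (z t)) := by
    intro t
    have h : ∃ y : P, (y : P ⧸ K) = (t.1.2.1 : P) ∧ Commute (z t) y := ⟨_, rfl, hzc t⟩
    simp only [Y, dif_pos h]
    exact h.choose_spec
  let w : Triples ρ c → P := fun t => (Y (t.1.2.1 : P) (z t))⁻¹ * t.1.2.1
  have hwK : ∀ t, w t ∈ K := fun t => QuotientGroup.eq.1 (hY t).1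
  have hzfix : ∀ t : Triples ρ c, ∀ b : (Aᶜ : Set α),
      resB t.1.2.2 (kerAct ρ A hA ⟨z t, hzK t⟩ b) = resB t.1.2.2 b := by
    intro t b
    set x1 := X (t.1.1 : P) t.1.2.1 (resB t.1.2.2)
    have h1 := (hX t).2.2 (restr ρ Aᶜ (compl_invariant ρ A hA) (z t) b)
    have h2 : x1 * z t = t.1.1 := by simp [z, x1]
    show resB _ (restr ρ Aᶜ (compl_invariant ρ A hA) (z t) b) = _
    rw [← h1]
    show t.1.2.2 (ρ x1 (ρ (z t) b)) = t.1.2.2 b
    rw [← Equiv.Perm.mul_apply, ← map_mul, h2]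
    exact t.2.2 b
  let Φ : Triples ρ c → Triples (imgAct ρ A hA) c × Triples (kerAct ρ A hA) c := fun t =>
    (⟨((t.1.1 : P), (t.1.2.1 : P), fun a => t.1.2.2 a),
      ⟨t.2.1.map (QuotientGroup.mk' K), fun a => t.2.2 a⟩⟩,
     ⟨(⟨z t, hzK t⟩, ⟨w t, hwK t⟩, resB t.1.2.2),
      ⟨Subtype.ext (((hY t).2.inv_right).mul_right (hzc t)), hzfix t⟩⟩)
  rw [← Nat.card_prod]
  refine Nat.card_le_card_of_injective Φ ?_
  intro t t' e
  have e1 := congrArg (fun s => (Prod.fst s).1) e
  have e2 := congrArg (fun s => (Prod.snd s).1) e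
  simp only [Φ, Prod.mk.injEq, Subtype.mk.injEq] at e1 e2
  obtain ⟨ex, ey, efA⟩ := e1
  obtain ⟨ez, ew, efB⟩ := e2
  have hy : t.1.2.1 = t'.1.2.1 := by
    have h1 : Y (t.1.2.1 : P) (z t) = Y (t'.1.2.1 : P) (z t') :=
      congrArg₂ Y ey ez
    have h2 : (Y (t.1.2.1 : P) (z t))⁻¹ * t.1.2.1 = (Y (t'.1.2.1 : P) (z t'))⁻¹ * t'.1.2.1 := ew
    rw [h1] at h2
    exact mul_left_cancel h2
  have hx : t.1.1 = t'.1.1 := by
    have h1 : X (t.1.1 : P) t.1.2.1 (resB t.1.2.2) = X (t'.1.1 : P) t'.1.2.1 (resB t'.1.2.2) := by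
      rw [hy, efB]
      exact congrArg (fun q => X q t'.1.2.1 (resB t'.1.2.2)) ex
    have h2 : (X (t.1.1 : P) t.1.2.1 (resB t.1.2.2))⁻¹ * t.1.1 =
        (X (t'.1.1 : P) t'.1.2.1 (resB t'.1.2.2))⁻¹ * t'.1.1 := ez
    rw [h1] at h2
    exact mul_left_cancel h2
  have hf : t.1.2.2 = t'.1.2.2 := by
    funext a
    by_cases ha : a ∈ A
    · exact congrFun efA ⟨a, ha⟩
    · exact congrFun efB ⟨a, ha⟩
  exact Subtype.ext (Prod.ext hx (Prod.ext hy hf))

theorem norb_split [Finite α] :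
    norb ρ ≤ norb (imgAct ρ A hA) + norb (kerAct ρ A hA) := by
  classical
  unfold norb
  rw [← Nat.card_sum]
  refine Nat.card_le_card_of_surjective
    (Sum.elim (Quotient.lift (fun a : A => Quotient.mk (orbSetoid ρ) (a : α)) ?_)
      (Quotient.lift (fun a : (Aᶜ : Set α) => Quotient.mk (orbSetoid ρ) (a : α)) ?_)) ?_
  · rintro a b ⟨g, hg⟩
    obtain ⟨g, rfl⟩ := QuotientGroup.mk_surjective g
    exact Quotient.sound ⟨g, congrArg Subtype.val hg⟩
  · rintro a b ⟨g, hg⟩
    exact Quotient.sound ⟨(g : P), congrArg Subtype.val hg⟩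
  · intro q
    obtain ⟨a, rfl⟩ := Quotient.mk_surjective q
    by_cases ha : a ∈ A
    · exact ⟨.inl (Quotient.mk _ ⟨a, ha⟩), rfl⟩
    · exact ⟨.inr (Quotient.mk _ ⟨a, ha⟩), rfl⟩

theorem card_group_split : Nat.card P =
    Nat.card (P ⧸ (restr ρ A hA).ker) * Nat.card (restr ρ A hA).ker :=
  Subgroup.card_eq_card_quotient_mul_card_subgroup _

end Split

end Cfsg.Agent.Grp.PermClasses
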