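import Mathlib
import Cfsg.Agent.Lib.Grp.PermClasses.Colour

/-!
The bound on coloured commuting pairs in a permutation `p`-group.
-/

namespace Cfsg.Agent.Grp.PermClasses

universe u v

/-- The excess factor for the prime `p` and `c` colours. -/
noncomputable def excess (c p : ℕ) : ℝ := ((c : ℝ) ^ (p - 1))⁻¹

theorem excess_nonneg (c p : ℕ) : 0 ≤ excess c p := by
  unfold excess; positivity

theorem pow_mul_excess {c p : ℕ} (hc : 1 ≤ c) : (c : ℝ) ^ (p - 1) * excess c p = 1 := by
  have : (c : ℝ) ≠ 0 := by exact_mod_cast (by omega : c ≠ 0)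
  exact mul_inv_cancel₀ (pow_ne_zero _ this)

theorem key_ineq {c p : ℕ} (hc : 1 ≤ c) (hp : 1 ≤ p) (j : ℕ) :
    (p : ℝ) ^ j * (c : ℝ) ^ (j + 1) ≤
      (c : ℝ) ^ (p * (j + 1)) * (1 + excess c p) ^ (p * j) * excess c p := by
  have hu := excess_nonneg c p
  induction j with
  | zero =>
    have : (c : ℝ) ^ p = c * (c : ℝ) ^ (p - 1) := by
      rw [← pow_succ']; congr 1; omega
    simp only [pow_zero, one_mul, zero_add, pow_one, mul_one, mul_zero]
    rw [this, mul_assoc, pow_mul_excess hc, mul_one]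
  | succ j ih =>
    have h1 : (p : ℝ) * c ≤ (c : ℝ) ^ p * (1 + excess c p) ^ p := by
      have hb : 1 + (p : ℝ) * excess c p ≤ (1 + excess c p) ^ p :=
        one_add_mul_le_pow (by linarith) p
      have hcp : (c : ℝ) ^ p = c * (c : ℝ) ^ (p - 1) := by
        rw [← pow_succ']; congr 1; omega
      have h2 : (c : ℝ) ^ (p - 1) * (1 + excess c p) ^ p ≥ p := by
        calc (c : ℝ) ^ (p - 1) * (1 + excess c p) ^ p
            ≥ (c : ℝ) ^ (p - 1) * (1 + p * excess c p) := by gcongr
          _ = (c : ℝ) ^ (p - 1) + p * ((c : ℝ) ^ (p - 1) * excess c p) := by ring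
          _ ≥ p := by
            rw [pow_mul_excess hc, mul_one]
            have : (0 : ℝ) ≤ (c : ℝ) ^ (p - 1) := by positivity
            linarith
      rw [hcp, mul_assoc, mul_comm (p : ℝ)]
      gcongr
    calc (p : ℝ) ^ (j + 1) * (c : ℝ) ^ (j + 1 + 1)
        = ((p : ℝ) ^ j * (c : ℝ) ^ (j + 1)) * ((p : ℝ) * c) := by ring
      _ ≤ ((c : ℝ) ^ (p * (j + 1)) * (1 + excess c p) ^ (p * j) * excess c p) *
            ((c : ℝ) ^ p * (1 + excess c p) ^ p) := by gcongr
      _ = _ := by ring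

/-- The two bounds at a given degree. -/
def GoodAt (p c n : ℕ) : Prop :=
  ∀ {α : Type u} [Finite α] {P : Type v} [Group P] [Finite P], IsPGroup p P →
    ∀ ρ : P →* Equiv.Perm α, Function.Injective ρ → Nat.card α = n →
      Nat.card P ≤ p ^ (n - norb ρ) ∧
      (Nat.card (Triples ρ c) : ℝ) ≤
        Nat.card P * (c : ℝ) ^ n * (1 + excess c p) ^ (n - norb ρ)

variable {p c : ℕ}

/-- The step for an invariant proper subset. -/
theorem good_split (hp : p.Prime) {n : ℕ} (ih : ∀ k < n, GoodAt.{u, v} p c k)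
    {α : Type u} [Finite α] {P : Type v} [Group P] [Finite P] (hP : IsPGroup p P)
    (ρ : P →* Equiv.Perm α) (hρ : Function.Injective ρ) (hn : Nat.card α = n)
    (A : Set α) (hA : ∀ g a, ρ g a ∈ A ↔ a ∈ A) (hA1 : A.Nonempty) (hA2 : Aᶜ.Nonempty) :
    Nat.card P ≤ p ^ (n - norb ρ) ∧
      (Nat.card (Triples ρ c) : ℝ) ≤
        Nat.card P * (c : ℝ) ^ n * (1 + excess c p) ^ (n - norb ρ) := by
  classical
  have hsum : Nat.card A + Nat.card (Aᶜ : Set α) = n := by
    rw [← hn, ← Nat.card_sum]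
    exact Nat.card_congr (Equiv.Set.sumCompl A)
  have : Nonempty A := hA1.to_subtype
  have : Nonempty (Aᶜ : Set α) := hA2.to_subtype
  have hpA : 0 < Nat.card A := Nat.card_pos
  have hpB : 0 < Nat.card (Aᶜ : Set α) := Nat.card_pos
  obtain ⟨a1, a2⟩ := ih (Nat.card A) (by omega) (hP.to_quotient _) (imgAct ρ A hA)
    (imgAct_injective ρ A hA) rfl
  obtain ⟨b1, b2⟩ := ih (Nat.card (Aᶜ : Set α)) (by omega) (hP.to_subgroup _) (kerAct ρ A hA)
    (kerAct_injective ρ A hA hρ) rfl
  have he : (Nat.card A - norb (imgAct ρ A hA)) +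
      (Nat.card (Aᶜ : Set α) - norb (kerAct ρ A hA)) ≤ n - norb ρ := by
    have := norb_split ρ A hA
    have := norb_le (imgAct ρ A hA)
    have := norb_le (kerAct ρ A hA)
    omega
  have hP1 := card_group_split ρ A hA
  constructor
  · rw [hP1]
    calc _ ≤ p ^ (Nat.card A - norb (imgAct ρ A hA)) *
          p ^ (Nat.card (Aᶜ : Set α) - norb (kerAct ρ A hA)) := Nat.mul_le_mul a1 b1
      _ ≤ _ := by
        rw [← pow_add]
        exact Nat.pow_le_pow_right hp.pos he
  · have h := card_triples_split ρ A hA c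
    have hu := excess_nonneg c p
    calc (Nat.card (Triples ρ c) : ℝ)
        ≤ (Nat.card (Triples (imgAct ρ A hA) c) : ℝ) * Nat.card (Triples (kerAct ρ A hA) c) := by
          exact_mod_cast h
      _ ≤ _ := mul_le_mul a2 b2 (Nat.cast_nonneg _) (by positivity)
      _ = Nat.card P * (c : ℝ) ^ n * (1 + excess c p) ^
            ((Nat.card A - norb (imgAct ρ A hA)) +
              (Nat.card (Aᶜ : Set α) - norb (kerAct ρ A hA))) := by
          rw [← hsum, hP1, pow_add, pow_add]; push_cast; ring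
      _ ≤ _ := by
          refine mul_le_mul_of_nonneg_left ?_ (by positivity)
          exact pow_le_pow_right₀ (by linarith) he

/-- The step for a transitive group. -/
theorem good_transitive (hp : p.Prime) (hc : 1 ≤ c) {n : ℕ}
    (ih : ∀ k < n, GoodAt.{u, v} p c k)
    {α : Type u} [Finite α] {P : Type v} [Group P] [Finite P] (hP : IsPGroup p P)
    (ρ : P →* Equiv.Perm α) (hρ : Function.Injective ρ) (hn : Nat.card α = n) (h2 : 2 ≤ n)
    (htr : ∀ a b, ∃ g, ρ g a = b) :
    Nat.card P ≤ p ^ (n - norb ρ) ∧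
      (Nat.card (Triples ρ c) : ℝ) ≤
        Nat.card P * (c : ℝ) ^ n * (1 + excess c p) ^ (n - norb ρ) := by
  classical
  have := Fact.mk hp
  have hne : Nontrivial α := Finite.one_lt_card_iff_nontrivial.1 (by omega)
  obtain ⟨a0, b0, hab⟩ := exists_pair_ne α
  have hnorb : norb ρ = 1 := by
    unfold norb
    rw [Nat.card_eq_one_iff_unique]
    exact ⟨⟨fun q r => Quotient.inductionOn₂ q r fun a b => Quotient.sound (htr a b)⟩,
      ⟨Quotient.mk _ a0⟩⟩
  let H : Subgroup P := (MulAction.stabilizer (Equiv.Perm α) a0).comap ρ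
  have hH : H ≠ ⊤ := by
    intro h
    obtain ⟨g, hg⟩ := htr a0 b0
    have : g ∈ H := h ▸ Subgroup.mem_top g
    exact hab (this.symm.trans hg)
  obtain ⟨M, hM, hHM⟩ := (eq_top_or_exists_le_coatom H).resolve_left hH
  obtain ⟨hMn, hMi⟩ := coatom_index_eq_of_pGroup hP hM
  -- the block map
  choose gg hgg using fun b => htr a0 b
  let bk : α → P ⧸ M := fun b => (gg b : P ⧸ M)
  have hbk : ∀ g b, bk (ρ g b) = (g : P ⧸ M) * bk b := by
    intro g b
    show (gg (ρ g b) : P ⧸ M) = ((g * gg b : P) : P ⧸ M)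
    refine QuotientGroup.eq.2 (hHM ?_)
    show ρ _ a0 = a0
    rw [map_mul, Equiv.Perm.mul_apply, map_mul, Equiv.Perm.mul_apply, hgg, map_inv,
      Equiv.Perm.inv_eq_iff_eq, hgg]
  have hbM : ∀ k : M, ∀ b, bk (ρ k b) = bk b := fun k b => by
    rw [hbk, (QuotientGroup.eq_one_iff _).2 k.2, one_mul]
  let B : Set α := {b | bk b = 1}
  have hPM : Nat.card (P ⧸ M) = p := hMi
  have hsurj : Function.Surjective bk := by
    intro q
    obtain ⟨g, rfl⟩ := QuotientGroup.mk_surjective q
    refine ⟨ρ g (ρ (gg a0)⁻¹ a0), ?_⟩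
    rw [hbk, hbk]
    show (g : P ⧸ M) * ((((gg a0)⁻¹ : P) : P ⧸ M) * (gg a0 : P ⧸ M)) = g
    rw [← QuotientGroup.mk_mul, inv_mul_cancel, QuotientGroup.mk_one, mul_one]
  have hnpm : n = p * Nat.card B := by
    rw [← hn, ← hPM, ← Nat.card_prod]
    refine Nat.card_congr
      { toFun := fun b => (bk b, ⟨ρ (bk b).out⁻¹ b, ?_⟩)
        invFun := fun t => ρ t.1.out t.2.1
        left_inv := fun b => by simp
        right_inv := fun t => ?_ }
    · show bk _ = 1
      rw [hbk, QuotientGroup.mk_inv, QuotientGroup.out_eq', inv_mul_cancel]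
    · obtain ⟨q, b, hb⟩ := t
      have hb' : bk b = 1 := hb
      have h1 : bk (ρ q.out b) = q := by
        rw [hbk, hb', mul_one, QuotientGroup.out_eq']
      refine Prod.ext h1 (Subtype.ext ?_)
      simp [h1]
  obtain ⟨b1, hb1⟩ := hsurj 1
  have hBne : B.Nonempty := ⟨b1, hb1⟩
  have : Nonempty B := hBne.to_subtype
  have hmpos : 0 < Nat.card B := Nat.card_pos
  obtain ⟨j, hj⟩ : ∃ j, Nat.card B = j + 1 := ⟨Nat.card B - 1, by omega⟩
  have hp2 := hp.two_le
  have hmn : Nat.card B < n := by nlinarith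
  -- the normal subgroup of index `p`
  let ρM : M →* Equiv.Perm α := ρ.comp M.subtype
  have hρM : Function.Injective ρM := hρ.comp M.subtype_injective
  have hBcne : Bᶜ.Nonempty := by
    have : Nontrivial (P ⧸ M) := Finite.one_lt_card_iff_nontrivial.1 (by rw [hPM]; exact hp.one_lt)
    obtain ⟨q, hq⟩ := exists_ne (1 : P ⧸ M)
    obtain ⟨b, rfl⟩ := hsurj q
    exact ⟨b, hq⟩
  obtain ⟨m1, m2⟩ := good_split hp ih (hP.to_subgroup M) ρM hρM hn B
    (fun k b => by show bk (ρ k b) = 1 ↔ bk b = 1; rw [hbM]) hBne hBcne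
  have hoM : p ≤ norb ρM := by
    rw [← hPM]
    unfold norb
    refine Nat.card_le_card_of_surjective (Quotient.lift bk ?_) ?_
    · rintro a b ⟨k, rfl⟩
      exact (hbM k a).symm
    · intro q
      obtain ⟨b, rfl⟩ := hsurj q
      exact ⟨Quotient.mk _ b, rfl⟩
  have heM : n - norb ρM ≤ p * j := by
    rw [hnpm, hj, mul_add, mul_one]
    have : p ≤ norb ρM := hoM
    omega
  have hcardP : Nat.card P = p * Nat.card M := by
    rw [Subgroup.card_eq_card_quotient_mul_card_subgroup M, hPM]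
  have he1 : p * j + (p - 1) = n - norb ρ := by
    rw [hnorb, hnpm, hj, mul_add, mul_one]
    omega
  constructor
  · rw [hcardP]
    calc p * Nat.card M ≤ p * p ^ (n - norb ρM) := Nat.mul_le_mul_left p m1
      _ ≤ p * p ^ (p * j) := Nat.mul_le_mul_left p (Nat.pow_le_pow_right hp.pos heM)
      _ = p ^ (p * j + 1) := by rw [pow_succ']
      _ ≤ _ := Nat.pow_le_pow_right hp.pos (by omega)
  -- elements outside `M`
  have hout : ∀ x, x ∉ M → ∀ b, ∃ i : ℕ, ∃ b' ∈ B, ρ (x ^ i) b' = b := by
    intro x hx b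
    have hx1 : (x : P ⧸ M) ≠ 1 := fun h => hx ((QuotientGroup.eq_one_iff x).1 h)
    obtain ⟨i, hi⟩ := mem_powers_of_prime_card (g' := bk b) hPM hx1
    refine ⟨i, ρ (x ^ i)⁻¹ b, ?_, by simp⟩
    show bk _ = 1
    rw [hbk, QuotientGroup.mk_inv, QuotientGroup.mk_pow, show (x : P ⧸ M) ^ i = bk b from hi,
      inv_mul_cancel]
  have hfix : ∀ (x : P) (f : α → Fin c), (∀ a, f (ρ x a) = f a) → ∀ (i : ℕ) (a : α),
      f (ρ (x ^ i) a) = f a := by
    intro x f hf i
    induction i with
    | zero => simp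
    | succ i ihi => intro a; rw [pow_succ', map_mul, Equiv.Perm.mul_apply, hf, ihi]
  have houtcard : ∀ x, x ∉ M →
      Nat.card {s : P × (α → Fin c) // Commute x s.1 ∧ ∀ a, s.2 (ρ x a) = s.2 a} ≤
        p * p ^ j * c ^ (j + 1) := by
    intro x hx
    let Q : Subgroup P := Subgroup.centralizer {x} ⊓ M
    let τ : Q →* Equiv.Perm B :=
      (restr ρM B (fun k b => by show bk (ρ k b) = 1 ↔ bk b = 1; rw [hbM])).comp
        (Subgroup.inclusion (inf_le_right : Q ≤ M))
    have hτ : Function.Injective τ := by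
      intro g h e
      refine Subtype.ext (hρ (Equiv.ext fun b => ?_))
      obtain ⟨i, b', hb', rfl⟩ := hout x hx b
      have hg : Commute (g : P) x := Subgroup.mem_centralizer_singleton_iff.1 g.2.1
      have hh : Commute (h : P) x := Subgroup.mem_centralizer_singleton_iff.1 h.2.1
      have sw : ∀ k : P, Commute k x → ρ k (ρ (x ^ i) b') = ρ (x ^ i) (ρ k b') := by
        intro k hk
        rw [← Equiv.Perm.mul_apply, ← map_mul, (hk.pow_right i).eq, map_mul, Equiv.Perm.mul_apply]
      rw [sw _ hg, sw _ hh]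
      exact congrArg _ (congrArg (fun e : Equiv.Perm B => (e ⟨b', hb'⟩ : α)) e)
    have hQ : Nat.card Q ≤ p ^ j := by
      refine (ih _ hmn (hP.to_subgroup Q) τ hτ rfl).1.trans (Nat.pow_le_pow_right hp.pos ?_)
      have : 0 < norb τ := by
        unfold norb
        have : Nonempty (Quotient (orbSetoid τ)) := ⟨Quotient.mk _ ⟨b1, hb1⟩⟩
        exact Nat.card_pos
      omega
    have hcent : Nat.card {y : P // Commute x y} ≤ p * p ^ j := by
      calc Nat.card {y : P // Commute x y}
          ≤ Nat.card ((P ⧸ M) × Q) := by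
            let Y : P ⧸ M → P := fun q =>
              if h : ∃ y : P, (y : P ⧸ M) = q ∧ Commute x y then h.choose else 1
            have hY : ∀ y : {y : P // Commute x y}, ((Y y.1 : P) : P ⧸ M) = (y.1 : P) ∧
                Commute x (Y y.1) := by
              intro y
              have h : ∃ z : P, (z : P ⧸ M) = (y.1 : P) ∧ Commute x z := ⟨y, rfl, y.2⟩
              simp only [Y, dif_pos h]
              exact h.choose_spec
            refine Nat.card_le_card_of_injective (fun y : {y : P // Commute x y} =>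
              ((y.1 : P ⧸ M), (⟨(Y y.1)⁻¹ * y.1, ⟨Subgroup.mem_centralizer_singleton_iff.2
                (((hY y).2.inv_right).mul_right y.2).symm.eq, QuotientGroup.eq.1 (hY y).1⟩⟩ : Q)))
              ?_
            intro y y' e
            have e1 : (y.1 : P ⧸ M) = (y'.1 : P ⧸ M) := congrArg Prod.fst e
            have e2 : (Y y.1)⁻¹ * y.1 = (Y y'.1)⁻¹ * y'.1 :=
              congrArg (fun t => ((Prod.snd t : Q) : P)) e
            rw [e1] at e2
            exact Subtype.ext (mul_left_cancel e2)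
        _ ≤ p * p ^ j := by
            rw [Nat.card_prod, hPM]; exact Nat.mul_le_mul_left p hQ
    calc _ ≤ Nat.card ({y : P // Commute x y} × (B → Fin c)) := by
          refine Nat.card_le_card_of_injective
            (fun s => (⟨s.1.1, s.2.1⟩, fun b => s.1.2 b.1)) ?_
          intro s s' e
          simp only [Prod.mk.injEq, Subtype.mk.injEq] at e
          refine Subtype.ext (Prod.ext e.1 (funext fun a => ?_))
          obtain ⟨i, b', hb', rfl⟩ := hout x hx a
          rw [hfix x _ s.2.2, hfix x _ s'.2.2]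
          exact congrFun e.2 ⟨b', hb'⟩
      _ ≤ _ := by
          rw [Nat.card_prod, Nat.card_fun, Nat.card_eq_fintype_card (α := Fin c),
            Fintype.card_fin, hj]
          exact Nat.mul_le_mul_right _ hcent
  have hTin : Nat.card {t : Triples ρ c // t.1.1 ∈ M} ≤ p * Nat.card (Triples ρM c) := by
    let Y : P ⧸ M → P → P := fun q x =>
      if h : ∃ y : P, (y : P ⧸ M) = q ∧ Commute x y then h.choose else 1
    have hY : ∀ t : {t : Triples ρ c // t.1.1 ∈ M},
        ((Y (t.1.1.2.1 : P) t.1.1.1 : P) : P ⧸ M) = (t.1.1.2.1 : P) ∧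
          Commute t.1.1.1 (Y (t.1.1.2.1 : P) t.1.1.1) := by
      intro t
      have h : ∃ z : P, (z : P ⧸ M) = (t.1.1.2.1 : P) ∧ Commute t.1.1.1 z :=
        ⟨_, rfl, t.1.2.1⟩
      simp only [Y, dif_pos h]
      exact h.choose_spec
    calc _ ≤ Nat.card ((P ⧸ M) × Triples ρM c) := by
          refine Nat.card_le_card_of_injective (fun t : {t : Triples ρ c // t.1.1 ∈ M} =>
            ((t.1.1.2.1 : P ⧸ M),
              (⟨(⟨t.1.1.1, t.2⟩, ⟨(Y (t.1.1.2.1 : P) t.1.1.1)⁻¹ * t.1.1.2.1,
                  QuotientGroup.eq.1 (hY t).1⟩, t.1.1.2.2),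
                Subtype.ext (((hY t).2.inv_right).mul_right t.1.2.1).eq, t.1.2.2⟩ :
                Triples ρM c))) ?_
          intro t t' e
          simp only [Prod.mk.injEq, Subtype.mk.injEq] at e
          obtain ⟨e1, e2, e3, e4⟩ := e
          rw [e1, e2] at e3
          exact Subtype.ext (Subtype.ext (Prod.ext e2 (Prod.ext (mul_left_cancel e3) e4)))
      _ = _ := by rw [Nat.card_prod, hPM]
  have hTout : Nat.card {t : Triples ρ c // t.1.1 ∉ M} ≤
      Nat.card {x : P // x ∉ M} * (p * p ^ j * c ^ (j + 1)) := by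
    have := Fintype.ofFinite P
    calc _ ≤ Nat.card (Σ x : {x : P // x ∉ M},
          {s : P × (α → Fin c) // Commute x.1 s.1 ∧ ∀ a, s.2 (ρ x.1 a) = s.2 a}) :=
          Nat.card_le_card_of_injective
            (fun t => ⟨⟨t.1.1.1, t.2⟩, ⟨(t.1.1.2.1, t.1.1.2.2), t.1.2⟩⟩) (by
              intro t t' e
              simp only [Sigma.mk.injEq, Subtype.mk.injEq] at e
              obtain ⟨e1, e2⟩ := e
              obtain ⟨⟨⟨x, y, f⟩, _⟩, _⟩ := t
              obtain ⟨⟨⟨x', y', f'⟩, _⟩, _⟩ := t'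
              obtain rfl : x = x' := e1
              have := eq_of_heq e2
              simp only [Subtype.mk.injEq, Prod.mk.injEq] at this
              obtain ⟨rfl, rfl⟩ := this
              rfl)
      _ = ∑ x : {x : P // x ∉ M},
          Nat.card {s : P × (α → Fin c) // Commute x.1 s.1 ∧ ∀ a, s.2 (ρ x.1 a) = s.2 a} :=
          Nat.card_sigma
      _ ≤ ∑ _x : {x : P // x ∉ M}, p * p ^ j * c ^ (j + 1) :=
          Finset.sum_le_sum fun x _ => houtcard x.1 x.2
      _ = _ := by rw [Finset.sum_const, Finset.card_univ, smul_eq_mul,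
            ← Nat.card_eq_fintype_card]
  have hsplit : Nat.card (Triples ρ c) =
      Nat.card {t : Triples ρ c // t.1.1 ∈ M} + Nat.card {t : Triples ρ c // t.1.1 ∉ M} := by
    rw [← Nat.card_sum]
    exact (Nat.card_congr (Equiv.sumCompl _)).symm
  have hcompl : Nat.card M + Nat.card {x : P // x ∉ M} = p * Nat.card M := by
    rw [← hcardP, ← Nat.card_sum]
    exact Nat.card_congr (Equiv.sumCompl (fun x => x ∈ M))
  -- the arithmetic
  set u := excess c p with hu'
  have hu := excess_nonneg c p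
  rw [← hu'] at hu
  have hT : (Nat.card (Triples ρ c) : ℝ) ≤ p * (Nat.card (Triples ρM c) : ℝ) +
      ((p : ℝ) - 1) * Nat.card M * (p * (p : ℝ) ^ j * (c : ℝ) ^ (j + 1)) := by
    have h1 : Nat.card (Triples ρ c) ≤ p * Nat.card (Triples ρM c) +
        Nat.card {x : P // x ∉ M} * (p * p ^ j * c ^ (j + 1)) := by omega
    have h2 : (Nat.card {x : P // x ∉ M} : ℝ) = ((p : ℝ) - 1) * Nat.card M := by
      have : (Nat.card M : ℝ) + Nat.card {x : P // x ∉ M} = p * Nat.card M := by
        exact_mod_cast hcompl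
      linarith
    have h3 : (Nat.card (Triples ρ c) : ℝ) ≤ p * (Nat.card (Triples ρM c) : ℝ) +
        (Nat.card {x : P // x ∉ M} : ℝ) * (p * (p : ℝ) ^ j * (c : ℝ) ^ (j + 1)) := by
      exact_mod_cast h1
    rw [h2] at h3
    exact h3
  have hM2 : (Nat.card (Triples ρM c) : ℝ) ≤ Nat.card M * (c : ℝ) ^ n * (1 + u) ^ (p * j) := by
    refine m2.trans (mul_le_mul_of_nonneg_left ?_ (by positivity))
    exact pow_le_pow_right₀ (by linarith) heM
  have hk := key_ineq hc hp.pos j
  rw [← hu', ← hj, ← hnpm, hj] at hk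
  have hp1 : (1 : ℝ) ≤ p := by exact_mod_cast hp.pos
  have hbern : 1 + ((p : ℝ) - 1) * u ≤ (1 + u) ^ (p - 1) := by
    have := one_add_mul_le_pow (a := u) (by linarith) (p - 1)
    rwa [Nat.cast_sub hp.pos, Nat.cast_one] at this
  have hpos : 0 ≤ ((p : ℝ) - 1) * Nat.card M * p := by
    have : (0 : ℝ) ≤ (p : ℝ) - 1 := by linarith
    positivity
  rw [← he1, hcardP, Nat.cast_mul, pow_add]
  calc (Nat.card (Triples ρ c) : ℝ)
      ≤ _ := hT
    _ ≤ p * (Nat.card M * (c : ℝ) ^ n * (1 + u) ^ (p * j)) +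
        ((p : ℝ) - 1) * Nat.card M * p * ((c : ℝ) ^ n * (1 + u) ^ (p * j) * u) := by
      refine add_le_add (mul_le_mul_of_nonneg_left hM2 (by positivity)) ?_
      have := mul_le_mul_of_nonneg_left hk hpos
      linarith
    _ = p * Nat.card M * (c : ℝ) ^ n * (1 + u) ^ (p * j) * (1 + ((p : ℝ) - 1) * u) := by ring
    _ ≤ p * Nat.card M * (c : ℝ) ^ n * (1 + u) ^ (p * j) * (1 + u) ^ (p - 1) :=
      mul_le_mul_of_nonneg_left hbern (by positivity)
    _ = _ := by ring

/-- The bound for coloured commuting pairs. -/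
theorem good_all (hp : p.Prime) (hc : 1 ≤ c) : ∀ n, GoodAt.{u, v} p c n := by
  intro n
  induction n using Nat.strong_induction_on with
  | _ n ih =>
    intro α _ P _ _ hP ρ hρ hn
    classical
    rcases lt_or_ge n 2 with h | h
    · have : Subsingleton α := Finite.card_le_one_iff_subsingleton.1 (by omega)
      have : Subsingleton P := hρ.subsingleton
      have hP1 : Nat.card P = 1 := Nat.card_of_subsingleton (1 : P)
      refine ⟨by rw [hP1]; exact Nat.one_le_pow _ _ hp.pos, ?_⟩
      have hT : Nat.card (Triples ρ c) ≤ c ^ n := by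
        calc _ ≤ Nat.card (α → Fin c) :=
              Nat.card_le_card_of_injective (fun t => t.1.2.2) (fun t t' e =>
                Subtype.ext (Prod.ext (Subsingleton.elim _ _)
                  (Prod.ext (Subsingleton.elim _ _) e)))
          _ = c ^ n := by
              rw [Nat.card_fun, hn, Nat.card_eq_fintype_card, Fintype.card_fin]
      have hu := excess_nonneg c p
      calc (Nat.card (Triples ρ c) : ℝ) ≤ (c : ℝ) ^ n := by exact_mod_cast hT
        _ ≤ (c : ℝ) ^ n * (1 + excess c p) ^ (n - norb ρ) :=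
            le_mul_of_one_le_right (by positivity) (one_le_pow₀ (by linarith))
        _ = _ := by rw [hP1]; simp
    · by_cases htr : ∀ a b, ∃ g, ρ g a = b
      · exact good_transitive hp hc ih hP ρ hρ hn h htr
      · push Not at htr
        obtain ⟨a, b, hab⟩ := htr
        refine good_split hp ih hP ρ hρ hn {d | ∃ g, ρ g a = d} ?_ ⟨a, 1, by simp⟩ ⟨b, ?_⟩
        · intro g d
          constructor
          · rintro ⟨k, hk⟩
            exact ⟨g⁻¹ * k, by rw [map_mul, Equiv.Perm.mul_apply, hk]; simp⟩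
          · rintro ⟨k, rfl⟩
            exact ⟨g * k, by simp⟩
        · rintro ⟨g, hg⟩
          exact hab g hg

end Cfsg.Agent.Grp.PermClasses
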