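import Mathlib
import Cfsg.Agent.Lib.Grp.PermClasses.Bound

/-!
A permutation group of degree `n` has at most `3 ^ n` conjugacy classes.

The primes are added one at a time: a class whose elements have order supported by `S ∪ {p}` is
given by a class of `p`-elements `x` and a class of `S`-elements of the centraliser of `x`, and the
latter act on the cycles of `x`.
-/

namespace Cfsg.Agent.Grp.PermClasses

open scoped Pointwise

/-- The order of `g` is supported by `S`. -/
def IsS {G : Type*} [Group G] (S : Finset ℕ) (g : G) : Prop := (orderOf g).primeFactors ⊆ S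

/-- The number of classes of `S`-elements. -/
noncomputable def lcount (S : Finset ℕ) (G : Type*) [Group G] : ℕ :=
  Nat.card {C : ConjClasses G // ∃ g, ConjClasses.mk g = C ∧ IsS S g}

/-- The class bound for the primes in `S`. -/
def SBound (S : Finset ℕ) (K : ℝ) : Prop :=
  ∀ (G : Type) [Group G] [Finite G] (α : Type) [Finite α] (ρ : G →* Equiv.Perm α),
    Function.Injective ρ → (lcount S G : ℝ) ≤ K ^ Nat.card α

theorem orderOf_conj_eq {G : Type*} [Group G] (k g : G) :
    orderOf (k * g * k⁻¹) = orderOf g := by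
  have := orderOf_injective (MulAut.conj k).toMonoidHom (MulAut.conj k).injective g
  simpa using this

/-- Two elements of the same order, prime to the exponent `q` of an abelian normal subgroup, that
are congruent modulo this subgroup are conjugate. -/
theorem conj_of_coset {G : Type*} [Group G] (N : Subgroup G) [N.Normal] [IsMulCommutative N]
    {q : ℕ} (hq : ∀ a : N, a ^ q = 1) {h1 h2 : G} {m : ℕ} (hm : m.Coprime q)
    (e1 : h1 ^ m = 1) (e2 : h2 ^ m = 1) (hk : h2 * h1⁻¹ ∈ N) : IsConj h1 h2 := by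
  classical
  have hmem : ∀ i : ℕ, h2 ^ i * (h1 ^ i)⁻¹ ∈ N := by
    intro i
    rw [← QuotientGroup.eq_one_iff, QuotientGroup.mk_mul, QuotientGroup.mk_inv,
      QuotientGroup.mk_pow, QuotientGroup.mk_pow]
    rw [← QuotientGroup.eq_one_iff, QuotientGroup.mk_mul, QuotientGroup.mk_inv,
      mul_inv_eq_one] at hk
    rw [hk, mul_inv_cancel]
  let k : N := ⟨h2 * h1⁻¹, hk⟩
  let cj : N → N := fun a => ⟨h1 * a * h1⁻¹, (inferInstance : N.Normal).conj_mem a.1 a.2 h1⟩
  have hcj : ∀ a b, cj (a * b) = cj a * cj b := fun a b => Subtype.ext (by simp [cj, mul_assoc])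
  have hcj1 : cj 1 = 1 := Subtype.ext (by simp [cj])
  let b : ℕ → N := fun i => ⟨h2 ^ i * (h1 ^ i)⁻¹, hmem i⟩
  have hb : ∀ i, b (i + 1) = k * cj (b i) := fun i => Subtype.ext (by
    simp only [b, k, cj, Subgroup.coe_mul]
    rw [pow_succ' h2, pow_succ' h1]
    group)
  have hcomm : ∀ a b : N, a * b = b * a := fun a b => mul_comm' a b
  -- partial products
  let a : ℕ → N := fun i => ((List.range i).map b).prod
  have ha : ∀ i, a (i + 1) = a i * b i := fun i => by
    simp [a, List.range_succ]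
  have hb0 : b 0 = 1 := Subtype.ext (by simp [b])
  have hbm : b m = 1 := Subtype.ext (by simp [b, e1, e2])
  have hshift : ∀ i, a i * b i = k ^ i * cj (a i) := by
    intro i
    induction i with
    | zero => simp [a, hb0, hcj1]
    | succ i ih =>
      rw [hb, ha, hcj, pow_succ]
      nth_rewrite 1 [ih]
      rw [mul_assoc, ← mul_assoc (cj (a i)) k, hcomm (cj (a i)) k]
      simp only [mul_assoc]
  have hkm : a m = k ^ m * cj (a m) := by have := hshift m; rwa [hbm, mul_one] at this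
  obtain ⟨t, ht⟩ : ∃ t : ℤ, ∃ s : ℤ, (m : ℤ) * t + q * s = 1 := by
    refine ⟨Nat.gcdA m q, Nat.gcdB m q, ?_⟩
    rw [← Nat.gcd_eq_gcd_ab, hm]
    rfl
  obtain ⟨s, hs⟩ := ht
  have hkt : (k ^ m) ^ t = k := by
    have hqs : k ^ ((q : ℤ) * s) = 1 := by rw [zpow_mul, zpow_natCast, hq, one_zpow]
    rw [← zpow_natCast, ← zpow_mul]
    calc k ^ ((m : ℤ) * t) = k ^ ((m : ℤ) * t) * k ^ ((q : ℤ) * s) := by rw [hqs, mul_one]
      _ = k := by rw [← zpow_add, hs, zpow_one]
  have hv : (a m) ^ t = k * cj ((a m) ^ t) := by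
    have hz : cj ((a m) ^ t) = (cj (a m)) ^ t :=
      map_zpow (⟨⟨cj, hcj1⟩, hcj⟩ : N →* N) (a m) t
    rw [hz]
    calc (a m) ^ t = (k ^ m * cj (a m)) ^ t := by rw [← hkm]
      _ = (k ^ m) ^ t * (cj (a m)) ^ t := (Commute.mul_zpow (hcomm _ _) t)
      _ = _ := by rw [hkt]
  refine isConj_iff.2 ⟨(((a m) ^ t : N) : G), ?_⟩
  have h := congrArg Subtype.val hv
  simp only [k, cj, Subgroup.coe_mul] at h
  set v := (((a m) ^ t : N) : G)
  have h' : v * h1 = h2 * v :=
    calc v * h1 = h2 * h1⁻¹ * (h1 * v * h1⁻¹) * h1 := by rw [← h]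
      _ = h2 * v := by group
  rw [h', mul_assoc, mul_inv_cancel, mul_one]

/-- Splitting off the `p`-part. -/
theorem exists_p_part {G : Type*} [Group G] [Finite G] (g : G) {p : ℕ} (hp : p.Prime) :
    ∃ (x h : G) (a : ℕ), x * h = g ∧ Commute x h ∧ x ^ p ^ a = 1 ∧
      (orderOf h).primeFactors ⊆ (orderOf g).primeFactors.erase p := by
  obtain ⟨a, r, hr, hm⟩ := Nat.exists_eq_pow_mul_and_not_dvd (orderOf_pos g).ne' p hp.ne_one
  have hco : (p ^ a).Coprime r :=
    Nat.Coprime.pow_left a (hp.coprime_iff_not_dvd.2 hr)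
  have hb := Nat.gcd_eq_gcd_ab (p ^ a) r
  rw [hco] at hb
  set s := Nat.gcdA (p ^ a) r
  set t := Nat.gcdB (p ^ a) r
  have hg : g ^ ((p ^ a * r : ℕ) : ℤ) = 1 := by rw [zpow_natCast, ← hm, pow_orderOf_eq_one]
  refine ⟨g ^ ((r : ℤ) * t), g ^ (((p ^ a : ℕ) : ℤ) * s), a, ?_, Commute.zpow_zpow_self g _ _,
    ?_, ?_⟩
  · rw [← zpow_add, add_comm, ← hb]; simp
  · rw [← zpow_natCast, ← zpow_mul,
      show (r : ℤ) * t * ((p ^ a : ℕ) : ℤ) = ((p ^ a * r : ℕ) : ℤ) * t by push_cast; ring,
      zpow_mul, hg, one_zpow]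
  · have hd : orderOf (g ^ (((p ^ a : ℕ) : ℤ) * s)) ∣ r := by
      apply orderOf_dvd_of_pow_eq_one
      rw [← zpow_natCast, ← zpow_mul,
        show ((p ^ a : ℕ) : ℤ) * s * r = ((p ^ a * r : ℕ) : ℤ) * s by push_cast; ring,
        zpow_mul, hg, one_zpow]
    intro q hq
    obtain ⟨hq1, hq2, -⟩ := Nat.mem_primeFactors.1 hq
    have hqr : q ∣ r := hq2.trans hd
    refine Finset.mem_erase.2 ⟨?_, Nat.mem_primeFactors.2 ⟨hq1, ?_, (orderOf_pos g).ne'⟩⟩
    · rintro rfl; exact hr hqr
    · rw [hm]; exact hqr.mul_left _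

theorem isS_of_dvd {G H : Type*} [Group G] [Group H] [Finite G] {S : Finset ℕ} {g : G} {h : H}
    (hd : orderOf h ∣ orderOf g) (hg : IsS S g) : IsS S h :=
  (Nat.primeFactors_mono hd (orderOf_pos g).ne').trans hg

/-- The number of cycles. -/
noncomputable def ncyc {α : Type*} (σ : Equiv.Perm α) : ℕ :=
  Nat.card (Quotient (Equiv.Perm.SameCycle.setoid σ))

theorem card_fixed_colourings {α : Type*} [Finite α] (σ : Equiv.Perm α) (c : ℕ) :
    Nat.card {f : α → Fin c // ∀ a, f (σ a) = f a} = c ^ ncyc σ := by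
  have h : Nat.card (Quotient (Equiv.Perm.SameCycle.setoid σ) → Fin c) = c ^ ncyc σ := by
    rw [Nat.card_fun, Nat.card_eq_fintype_card (α := Fin c), Fintype.card_fin]; rfl
  rw [← h]
  refine Nat.card_congr
    { toFun := fun f => Quotient.lift f.1 ?_
      invFun := fun F => ⟨fun a => F (Quotient.mk _ a), fun a => ?_⟩
      left_inv := fun f => rfl
      right_inv := fun F => funext fun q => Quotient.inductionOn q fun a => rfl }
  · intro a b hab
    obtain ⟨i, rfl⟩ : ∃ i : ℕ, (σ ^ i) a = b :=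
      Equiv.Perm.SameCycle.exists_nat_pow_eq hab
    clear hab
    induction i with
    | zero => simp
    | succ i ih => rw [pow_succ', Equiv.Perm.mul_apply, f.2, ← ih]
  · exact congrArg F (Quotient.sound (Equiv.Perm.SameCycle.symm ⟨1, by simp⟩))

/-- `S`-classes in a centraliser are bounded through the action on the cycles. -/
theorem lcount_centralizer_le {S : Finset ℕ} {K : ℝ} (hS : SBound S K) {p : ℕ} (hp : p.Prime)
    (hpS : p ∉ S) {G : Type} [Group G] [Finite G] {α : Type} [Finite α]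
    (ρ : G →* Equiv.Perm α) (hρ : Function.Injective ρ) (x : G) {a : ℕ} (hx : x ^ p ^ a = 1) :
    (lcount S (Subgroup.centralizer {x}) : ℝ) ≤ K ^ ncyc (ρ x) := by
  classical
  let Z := Subgroup.centralizer ({x} : Set G)
  let σ := ρ x
  have hcom : ∀ y : Z, Commute (ρ y) σ := fun y =>
    (show Commute (y : G) x from Subgroup.mem_centralizer_singleton_iff.1 y.2).map ρ
  have hpres : ∀ (y : Z) (b b' : α), Equiv.Perm.SameCycle σ b b' →
      Equiv.Perm.SameCycle σ (ρ y b) (ρ y b') := by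
    rintro y b b' ⟨i, rfl⟩
    exact ⟨i, by rw [← Equiv.Perm.mul_apply, ← ((hcom y).zpow_right i).eq, Equiv.Perm.mul_apply]⟩
  let act : Z → Quotient (Equiv.Perm.SameCycle.setoid σ) →
      Quotient (Equiv.Perm.SameCycle.setoid σ) :=
    fun y => Quotient.map (ρ y) (fun b b' h => hpres y b b' h)
  let φ : Z →* Equiv.Perm (Quotient (Equiv.Perm.SameCycle.setoid σ)) :=
    { toFun := fun y =>
        { toFun := act y
          invFun := act y⁻¹
          left_inv := fun q => Quotient.inductionOn q fun b =>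
            congrArg (Quotient.mk _) (by simp)
          right_inv := fun q => Quotient.inductionOn q fun b =>
            congrArg (Quotient.mk _) (by simp) }
      map_one' := Equiv.ext fun q => Quotient.inductionOn q fun b =>
        congrArg (Quotient.mk _) (by simp)
      map_mul' := fun y z => Equiv.ext fun q => Quotient.inductionOn q fun b =>
        congrArg (Quotient.mk _) (by simp) }
  let N := φ.ker
  have hN : ∀ (y : N) (b : α), ∃ i : ℤ, (σ ^ i) b = ρ (y : Z) b := by
    intro y b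
    have h := congrArg (fun e : Equiv.Perm _ => e (Quotient.mk _ b)) (MonoidHom.mem_ker.1 y.2)
    exact (Quotient.exact (s := Equiv.Perm.SameCycle.setoid σ) h).symm
  have hinj : Function.Injective (fun y : N => ρ ((y : Z) : G)) := fun y z e =>
    Subtype.ext (Subtype.ext (hρ e))
  have hab : IsMulCommutative N := ⟨⟨fun y z => hinj (Equiv.ext fun b => by
    obtain ⟨i, hi⟩ := hN y b
    obtain ⟨j, hj⟩ := hN z b
    simp only [Subgroup.coe_mul, map_mul, Equiv.Perm.mul_apply]
    rw [← hi, ← hj, ← Equiv.Perm.mul_apply, ((hcom y.1).zpow_right j).eq, Equiv.Perm.mul_apply,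
      ← hi, ← Equiv.Perm.mul_apply, ← zpow_add, add_comm, zpow_add, Equiv.Perm.mul_apply, hj,
      ← Equiv.Perm.mul_apply (σ ^ i), ← ((hcom z.1).zpow_right i).eq, Equiv.Perm.mul_apply])⟩⟩
  have hσ : σ ^ ((p ^ a : ℕ) : ℤ) = 1 := by rw [zpow_natCast, ← map_pow, hx, map_one]
  have hexp : ∀ y : N, y ^ p ^ a = 1 := by
    intro y
    refine hinj (Equiv.ext fun b => ?_)
    obtain ⟨i, hi⟩ := hN y b
    have key : ∀ n : ℕ, ((ρ (y : Z)) ^ n) b = (σ ^ (i * (n : ℤ))) b := by
      intro n
      induction n with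
      | zero => simp
      | succ n ih =>
        rw [pow_succ', Equiv.Perm.mul_apply, ih, ← Equiv.Perm.mul_apply,
          ((hcom y.1).zpow_right _).eq, Equiv.Perm.mul_apply, ← hi, ← Equiv.Perm.mul_apply,
          ← zpow_add]
        push_cast; ring_nf
    simp only [SubgroupClass.coe_pow, map_pow]
    rw [key, mul_comm, zpow_mul, hσ, one_zpow]
    simp
  have hco : ∀ g : Z, IsS S g → (orderOf g).Coprime (p ^ a) := by
    intro g hg
    refine Nat.Coprime.pow_right a (Nat.Coprime.symm (hp.coprime_iff_not_dvd.2 fun hd => hpS ?_))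
    exact hg (Nat.mem_primeFactors.2 ⟨hp, hd, (orderOf_pos g).ne'⟩)
  have hord : ∀ g : Z, IsS S g → g ^ orderOf (g : Z ⧸ N) = 1 := by
    intro g hg
    have hmem : g ^ orderOf (g : Z ⧸ N) ∈ N := by
      rw [← QuotientGroup.eq_one_iff, QuotientGroup.mk_pow, pow_orderOf_eq_one]
    have h1 : (g ^ orderOf (g : Z ⧸ N)) ^ p ^ a = 1 :=
      congrArg Subtype.val (hexp ⟨_, hmem⟩)
    have h2 : (g ^ orderOf (g : Z ⧸ N)) ^ orderOf g = 1 := by
      rw [← pow_mul, mul_comm, pow_mul, pow_orderOf_eq_one, one_pow]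
    have h3 := pow_gcd_eq_one.2 ⟨h2, h1⟩
    rwa [hco g hg, pow_one] at h3
  have hcount : lcount S Z ≤ lcount S (Z ⧸ N) := by
    refine Nat.card_le_card_of_injective
      (fun C => ⟨ConjClasses.map (QuotientGroup.mk' N) C.1, ?_⟩) ?_
    · obtain ⟨g, hg, hgS⟩ := C.2
      exact ⟨(g : Z ⧸ N), by rw [← hg]; rfl, isS_of_dvd (orderOf_map_dvd (QuotientGroup.mk' N) g) hgS⟩
    · rintro ⟨C, g, rfl, hgS⟩ ⟨D, h, rfl, hhS⟩ e
      refine Subtype.ext (ConjClasses.mk_eq_mk_iff_isConj.2 ?_)
      have e' : IsConj (g : Z ⧸ N) (h : Z ⧸ N) :=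
        ConjClasses.mk_eq_mk_iff_isConj.1 (congrArg Subtype.val e)
      obtain ⟨k, hk⟩ := isConj_iff.1 e'
      obtain ⟨k, rfl⟩ := QuotientGroup.mk_surjective k
      rw [← QuotientGroup.mk_inv, ← QuotientGroup.mk_mul, ← QuotientGroup.mk_mul] at hk
      have hgS' : IsS S (k * g * k⁻¹) := by
        unfold IsS; rw [orderOf_conj_eq]; exact hgS
      refine (isConj_iff.2 ⟨k, rfl⟩).trans
        (conj_of_coset N (q := p ^ a) hexp (m := orderOf (h : Z ⧸ N)) ?_ ?_ (hord h hhS) ?_)
      · exact Nat.Coprime.coprime_dvd_left (orderOf_map_dvd (QuotientGroup.mk' N) h) (hco h hhS)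
      · have := hord _ hgS'
        rwa [hk] at this
      · rw [← QuotientGroup.eq_one_iff, QuotientGroup.mk_mul, QuotientGroup.mk_inv, hk,
          mul_inv_cancel]
  refine le_trans ?_ (hS (Z ⧸ N) _ (QuotientGroup.kerLift φ) (QuotientGroup.kerLift_injective φ))
  exact_mod_cast hcount

/-- Adding a prime. -/
theorem sbound_insert {S : Finset ℕ} {K : ℝ} (hS : SBound S K) {p : ℕ} (hp : p.Prime)
    (hpS : p ∉ S) {c : ℕ} (hc : 1 ≤ c) (hcK : (c : ℝ) ≤ K) :
    SBound (insert p S) (K * (1 + excess c p)) := by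
  intro G _ _ α _ ρ hρ
  classical
  have := Fact.mk hp
  let P : Sylow p G := default
  let Cls := {C : ConjClasses G // ∃ x ∈ (P : Subgroup G), ConjClasses.mk x = C}
  have := Fintype.ofFinite Cls
  let r : Cls → G := fun C => C.2.choose
  have hr : ∀ C, r C ∈ (P : Subgroup G) := fun C => C.2.choose_spec.1
  have hrC : ∀ C, ConjClasses.mk (r C) = C.1 := fun C => C.2.choose_spec.2
  have hPp : ∀ x ∈ (P : Subgroup G), ∃ a : ℕ, x ^ p ^ a = 1 := by
    intro x hx
    obtain ⟨a, ha⟩ := P.isPGroup' ⟨x, hx⟩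
    exact ⟨a, congrArg Subtype.val ha⟩
  set n := Nat.card α
  -- splitting the classes
  have hsplit : (lcount (insert p S) G : ℝ) ≤ ∑ C : Cls, K ^ ncyc (ρ (r C)) := by
    let T : Cls → Type := fun C =>
      {D : ConjClasses (Subgroup.centralizer {r C}) // ∃ g, ConjClasses.mk g = D ∧ IsS S g}
    let f : (Σ C, T C) → ConjClasses G := fun s =>
      ConjClasses.mk (r s.1 * (s.2.2.choose : G))
    have hf : ∀ t : {C : ConjClasses G // ∃ g, ConjClasses.mk g = C ∧ IsS (insert p S) g},
        ∃ s, f s = t.1 := by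
      rintro ⟨_, g, rfl, hg⟩
      obtain ⟨x, h, a, rfl, hc', hxa, hh⟩ := exists_p_part g hp
      obtain ⟨Q, hQ⟩ := (IsPGroup.of_card (p := p) (G := Subgroup.zpowers x)
        (n := ((Nat.dvd_prime_pow hp).1 (orderOf_dvd_of_pow_eq_one hxa)).choose) (by
          rw [Nat.card_zpowers]
          exact ((Nat.dvd_prime_pow hp).1 (orderOf_dvd_of_pow_eq_one hxa)).choose_spec.2)).exists_le_sylow
      obtain ⟨k, hk⟩ := MulAction.exists_smul_eq G Q P
      have hxP : k * x * k⁻¹ ∈ (P : Subgroup G) := by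
        have : MulAut.conj k • x ∈ MulAut.conj k • (Q : Subgroup G) :=
          Subgroup.smul_mem_pointwise_smul _ _ _ (hQ (Subgroup.mem_zpowers x))
        rw [← hk]
        exact this
      let C : Cls := ⟨ConjClasses.mk (k * x * k⁻¹), _, hxP, rfl⟩
      obtain ⟨l, hl⟩ := isConj_iff.1 (ConjClasses.mk_eq_mk_iff_isConj.1 (hrC C))
      -- `l * r C * l⁻¹ = k x k⁻¹`
      set v := l⁻¹ * k
      have hv : v * x * v⁻¹ = r C := by
        show l⁻¹ * k * x * (l⁻¹ * k)⁻¹ = r C
        rw [show l⁻¹ * k * x * (l⁻¹ * k)⁻¹ = l⁻¹ * (k * x * k⁻¹) * l by group, ← hl]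
        group
      have hz : v * h * v⁻¹ ∈ Subgroup.centralizer {r C} := by
        rw [Subgroup.mem_centralizer_singleton_iff, ← hv]
        exact (hc'.symm.map (MulAut.conj v).toMonoidHom).eq
      have hzS : IsS S (⟨v * h * v⁻¹, hz⟩ : Subgroup.centralizer {r C}) := by
        unfold IsS
        rw [← Subgroup.orderOf_coe, orderOf_conj_eq]
        refine hh.trans fun q hq => ?_
        obtain ⟨hq1, hq2⟩ := Finset.mem_erase.1 hq
        exact (Finset.mem_insert.1 (hg hq2)).resolve_left hq1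
      let D : T C := ⟨ConjClasses.mk ⟨v * h * v⁻¹, hz⟩, _, rfl, hzS⟩
      refine ⟨⟨C, D⟩, ?_⟩
      obtain ⟨⟨w, hw⟩, hw'⟩ :=
        isConj_iff.1 (ConjClasses.mk_eq_mk_iff_isConj.1 D.2.choose_spec.1)
      have hw'' : w * (D.2.choose : G) * w⁻¹ = v * h * v⁻¹ := congrArg Subtype.val hw'
      refine ConjClasses.mk_eq_mk_iff_isConj.2 (isConj_iff.2 ⟨v⁻¹ * w, ?_⟩)
      have hwr : w * r C = r C * w := Subgroup.mem_centralizer_singleton_iff.1 hw
      calc v⁻¹ * w * (r C * (D.2.choose : G)) * (v⁻¹ * w)⁻¹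
          = v⁻¹ * ((w * r C) * (D.2.choose : G) * w⁻¹) * v := by group
        _ = v⁻¹ * (r C * (w * (D.2.choose : G) * w⁻¹)) * v := by rw [hwr]; group
        _ = x * h := by rw [hw'', ← hv]; group
    choose F hF using hf
    have h1 : lcount (insert p S) G ≤ Nat.card (Σ C, T C) :=
      Nat.card_le_card_of_injective F fun t t' e => Subtype.ext (by rw [← hF t, ← hF t', e])
    rw [Nat.card_sigma] at h1
    calc (lcount (insert p S) G : ℝ) ≤ ((∑ C : Cls, Nat.card (T C) : ℕ) : ℝ) := by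
          exact_mod_cast h1
      _ ≤ _ := by
          push_cast
          refine Finset.sum_le_sum fun C _ => ?_
          obtain ⟨a, ha⟩ := hPp _ (hr C)
          exact lcount_centralizer_le hS hp hpS ρ hρ (r C) ha
  -- coloured classes
  have hcol : Nat.card (P : Subgroup G) * ∑ C : Cls, c ^ ncyc (ρ (r C)) ≤
      Nat.card (Triples (ρ.comp (P : Subgroup G).subtype) c) := by
    have : ∑ C : Cls, c ^ ncyc (ρ (r C)) =
        Nat.card (Σ C : Cls, {f : α → Fin c // ∀ a, f (ρ (r C) a) = f a}) := by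
      rw [Nat.card_sigma]
      exact Finset.sum_congr rfl fun C _ => (card_fixed_colourings _ c).symm
    rw [this, ← Nat.card_prod]
    let rP : Cls → ↥(P : Subgroup G) := fun C => ⟨r C, hr C⟩
    let g0 : Cls → ↥(P : Subgroup G) → ↥(P : Subgroup G) := fun C x =>
      if h : ∃ g : (P : Subgroup G), g * rP C * g⁻¹ = x then h.choose else 1
    have hg0 : ∀ C (g : (P : Subgroup G)),
        g0 C (g * rP C * g⁻¹) * rP C * (g0 C (g * rP C * g⁻¹))⁻¹ =
          g * rP C * g⁻¹ := by
      intro C g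
      have h : ∃ g' : (P : Subgroup G), g' * rP C * g'⁻¹ = g * rP C * g⁻¹ := ⟨g, rfl⟩
      simp only [g0, dif_pos h]
      exact h.choose_spec
    refine Nat.card_le_card_of_injective (fun s =>
      ⟨(s.1 * rP s.2.1 * s.1⁻¹,
        s.1 * (g0 s.2.1 (s.1 * rP s.2.1 * s.1⁻¹))⁻¹,
        fun a => s.2.2.1 (ρ (s.1 : G)⁻¹ a)), ?_, ?_⟩) ?_
    · obtain ⟨g, C, f⟩ := s
      have h := hg0 C g
      simp only
      set x := rP C
      set g' := g0 C (g * x * g⁻¹)
      show g * x * g⁻¹ * (g * g'⁻¹) = g * g'⁻¹ * (g * x * g⁻¹)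
      conv_rhs => rw [← h]
      group
    · intro a
      obtain ⟨g, C, f, hf⟩ := s
      simp only [MonoidHom.comp_apply, Subgroup.coe_subtype, Subgroup.coe_mul, Subgroup.coe_inv,
        ← Equiv.Perm.mul_apply, ← map_mul, rP]
      rw [show (g : G)⁻¹ * ((g : G) * r C * (g : G)⁻¹) = r C * (g : G)⁻¹ by group, map_mul,
        Equiv.Perm.mul_apply]
      exact hf _
    · rintro ⟨g, C, f, hf⟩ ⟨g', C', f', hf'⟩ e
      simp only [Subtype.mk.injEq, Prod.mk.injEq] at e
      obtain ⟨e1, e2, e3⟩ := e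
      have eC : C = C' := by
        refine Subtype.ext ?_
        rw [← hrC C, ← hrC C', ConjClasses.mk_eq_mk_iff_isConj, isConj_iff]
        refine ⟨(g' : G)⁻¹ * g, ?_⟩
        have := congrArg (fun x : (P : Subgroup G) => (x : G)) e1
        simp only [Subgroup.coe_mul, Subgroup.coe_inv, rP] at this
        rw [show (g' : G)⁻¹ * g * r C * ((g' : G)⁻¹ * g)⁻¹ =
          (g' : G)⁻¹ * (g * r C * (g : G)⁻¹) * g' by group, this]
        group
      subst eC
      rw [e1] at e2
      obtain rfl : g = g' := mul_right_cancel e2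
      have : f = f' := funext fun b => by
        have := congrFun e3 (ρ (g : G) b)
        simpa using this
      subst this
      rfl
  have hP := (good_all hp hc n P.isPGroup' (ρ.comp (P : Subgroup G).subtype)
    (hρ.comp (Subgroup.subtype_injective _)) rfl).2
  have hu := excess_nonneg c p
  have hsum : ((∑ C : Cls, c ^ ncyc (ρ (r C)) : ℕ) : ℝ) ≤ (c : ℝ) ^ n * (1 + excess c p) ^ n := by
    have hpos : (0 : ℝ) < Nat.card (P : Subgroup G) := by exact_mod_cast Nat.card_pos
    refine le_of_mul_le_mul_left ?_ hpos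
    calc (Nat.card (P : Subgroup G) : ℝ) * ((∑ C : Cls, c ^ ncyc (ρ (r C)) : ℕ) : ℝ)
        ≤ _ := by exact_mod_cast hcol
      _ ≤ _ := hP
      _ ≤ _ := by
        rw [mul_assoc]
        gcongr
        · linarith
        · exact Nat.sub_le _ _
  have hc0 : (0 : ℝ) < c := by exact_mod_cast hc
  have hK0 : 0 ≤ K / c := div_nonneg (hc0.le.trans hcK) hc0.le
  calc (lcount (insert p S) G : ℝ) ≤ ∑ C : Cls, K ^ ncyc (ρ (r C)) := hsplit
    _ ≤ ∑ C : Cls, (K / c) ^ n * (c : ℝ) ^ ncyc (ρ (r C)) := by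
        refine Finset.sum_le_sum fun C _ => ?_
        calc K ^ ncyc (ρ (r C)) = (K / c) ^ ncyc (ρ (r C)) * (c : ℝ) ^ ncyc (ρ (r C)) := by
              rw [← mul_pow, div_mul_cancel₀ _ hc0.ne']
          _ ≤ _ := by
              refine mul_le_mul_of_nonneg_right ?_ (by positivity)
              exact pow_le_pow_right₀ ((one_le_div hc0).2 hcK)
                (Nat.card_le_card_of_surjective _ Quotient.mk_surjective)
    _ = (K / c) ^ n * ((∑ C : Cls, c ^ ncyc (ρ (r C)) : ℕ) : ℝ) := by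
        rw [← Finset.mul_sum]; push_cast; rfl
    _ ≤ (K / c) ^ n * ((c : ℝ) ^ n * (1 + excess c p) ^ n) :=
        mul_le_mul_of_nonneg_left hsum (by positivity)
    _ = _ := by rw [← mul_pow, ← mul_pow, ← mul_assoc, div_mul_cancel₀ _ hc0.ne']

theorem sbound_empty : SBound ∅ 1 := by
  intro G _ _ α _ ρ _
  rw [one_pow]
  have : lcount ∅ G ≤ 1 := by
    refine Finite.card_le_one_iff_subsingleton.2 ⟨?_⟩
    rintro ⟨_, g, rfl, hg⟩ ⟨_, h, rfl, hh⟩
    have e : ∀ k : G, IsS ∅ k → k = 1 := fun k hk => by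
      rcases Nat.primeFactors_eq_empty.1 (Finset.subset_empty.1 hk) with h0 | h1
      · exact absurd h0 (orderOf_pos k).ne'
      · exact orderOf_eq_one_iff.1 h1
    simp [e g hg, e h hh]
  exact_mod_cast this

theorem sbound_primes : ∀ j : ℕ,
    SBound ((Finset.range (2 * j + 3)).filter Nat.Prime) (3 - (1 / 4 : ℝ) ^ j) := by
  intro j
  induction j with
  | zero =>
    have h := sbound_insert sbound_empty Nat.prime_two (by simp) (c := 1) le_rfl (by simp)
    have e1 : (Finset.range (2 * 0 + 3)).filter Nat.Prime = insert 2 ∅ := by decide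
    have e2 : (3 : ℝ) - (1 / 4 : ℝ) ^ 0 = 1 * (1 + excess 1 2) := by norm_num [excess]
    rw [e1, e2]; exact h
  | succ j ih =>
    have h0 : (1 / 4 : ℝ) ^ j ≤ 1 := pow_le_one₀ (by norm_num) (by norm_num)
    have h1 : (0 : ℝ) < (1 / 4 : ℝ) ^ (j + 1) := by positivity
    by_cases hq : (2 * j + 3).Prime
    · have hS := sbound_insert ih hq (by simp) (c := 2) (by norm_num) (by push_cast; linarith)
      intro G _ _ α _ ρ hρ
      have hset : (Finset.range (2 * (j + 1) + 3)).filter Nat.Prime =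
          insert (2 * j + 3) ((Finset.range (2 * j + 3)).filter Nat.Prime) := by
        ext q
        simp only [Finset.mem_filter, Finset.mem_range, Finset.mem_insert]
        constructor
        · rintro ⟨hlt, hqp⟩
          by_cases h : q < 2 * j + 3
          · exact Or.inr ⟨h, hqp⟩
          · refine Or.inl ?_
            rcases hqp.eq_two_or_odd with h2 | h2 <;> omega
        · rintro (rfl | ⟨h, h'⟩)
          · exact ⟨by omega, hq⟩
          · exact ⟨by omega, h'⟩
      rw [hset]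
      refine (hS G α ρ hρ).trans (pow_le_pow_left₀ ?_ ?_ _)
      · have := excess_nonneg 2 (2 * j + 3)
        exact mul_nonneg (by linarith) (by linarith)
      · have he : excess 2 (2 * j + 3) = (1 / 4 : ℝ) ^ (j + 1) := by
          unfold excess
          rw [show 2 * j + 3 - 1 = 2 * (j + 1) by omega, pow_mul, one_div, inv_pow]
          norm_num
        rw [he]
        have : (1 / 4 : ℝ) ^ j = 4 * (1 / 4 : ℝ) ^ (j + 1) := by rw [pow_succ]; ring
        rw [this]
        nlinarith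
    · intro G _ _ α _ ρ hρ
      have hset : (Finset.range (2 * (j + 1) + 3)).filter Nat.Prime =
          (Finset.range (2 * j + 3)).filter Nat.Prime := by
        ext q
        simp only [Finset.mem_filter, Finset.mem_range]
        refine ⟨fun ⟨hlt, hqp⟩ => ⟨?_, hqp⟩, fun ⟨h, h'⟩ => ⟨by omega, h'⟩⟩
        by_contra h
        rcases eq_or_ne q (2 * j + 3) with rfl | hne
        · exact hq hqp
        · rcases hqp.eq_two_or_odd with h2 | h2 <;> omega
      rw [hset]
      refine (ih G α ρ hρ).trans (pow_le_pow_left₀ (by linarith) ?_ _)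
      have : (1 / 4 : ℝ) ^ (j + 1) ≤ (1 / 4 : ℝ) ^ j :=
        pow_le_pow_of_le_one (by norm_num) (by norm_num) (by omega)
      linarith

/-- A permutation group of degree `n` has at most `3 ^ n` classes. -/
theorem card_conjClasses_le (G : Type) [Group G] [Finite G] (α : Type) [Finite α]
    (ρ : G →* Equiv.Perm α) (hρ : Function.Injective ρ) :
    Nat.card (ConjClasses G) ≤ 3 ^ Nat.card α := by
  classical
  have h := sbound_primes (Nat.card α) G α ρ hρ
  have hall : lcount ((Finset.range (2 * Nat.card α + 3)).filter Nat.Prime) G =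
      Nat.card (ConjClasses G) := by
    refine Nat.card_congr (Equiv.subtypeUnivEquiv fun C => ?_)
    obtain ⟨g, rfl⟩ := ConjClasses.mk_surjective C
    refine ⟨g, rfl, fun q hq => ?_⟩
    obtain ⟨hq1, hq2, -⟩ := Nat.mem_primeFactors.1 hq
    have hd : q ∣ (Nat.card α).factorial := by
      refine hq2.trans ((orderOf_dvd_natCard g).trans ?_)
      rw [← Nat.card_perm]
      exact Subgroup.card_dvd_of_injective ρ hρ
    have := (hq1.dvd_factorial).1 hd
    exact Finset.mem_filter.2 ⟨Finset.mem_range.2 (by omega), hq1⟩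
  rw [hall] at h
  have h2 : (3 - (1 / 4 : ℝ) ^ Nat.card α) ^ Nat.card α ≤ (3 : ℝ) ^ Nat.card α := by
    refine pow_le_pow_left₀ ?_ ?_ _
    · have : (1 / 4 : ℝ) ^ Nat.card α ≤ 1 := pow_le_one₀ (by norm_num) (by norm_num)
      linarith
    · have : (0 : ℝ) ≤ (1 / 4 : ℝ) ^ Nat.card α := by positivity
      linarith
  exact_mod_cast h.trans h2

end Cfsg.Agent.Grp.PermClasses
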